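import Groth.Agent.TensorAssocLib.Nat
import Groth.Agent.ModSiteLib.TensorAssoc
import Groth.Agent.KFlatLib.DerivedTensor
import Groth.Prelude.Def_DCoh4

/-!
# Iterated derived tensor products
-/

set_option autoImplicit false
set_option maxHeartbeats 1000000

universe u

open CategoryTheory CategoryTheory.Limits AlgebraicGeometry HomologicalComplex

attribute [local instance] HasDerivedCategory.standard

namespace TensorAssocLib

open KFlatLib

variable {X : Scheme.{u}}

/-- `- ⊗ E` on complexes. -/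
noncomputable abbrev tR (E : CochainComplex X.Modules ℤ) :
    CochainComplex X.Modules ℤ ⥤ CochainComplex X.Modules ℤ :=
  (DCoh.tensorCx (X := X)).flip.obj E

/-- The counit of the derived tensor product. -/
noncomputable abbrev cnt (E : CochainComplex X.Modules ℤ) [DCoh.HasLTensorCx E] :
    DerivedCategory.Q ⋙ DCoh.LTensorCx E ⟶ tR E ⋙ DerivedCategory.Q :=
  (DCoh.tensorCxQ E).totalLeftDerivedCounit DerivedCategory.Q
    (HomologicalComplex.quasiIso X.Modules (ComplexShape.up ℤ))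

theorem isIso_cnt_of_kFlat (E : CochainComplex X.Modules ℤ) [DCoh.HasLTensorCx E]
    (K : CochainComplex X.Modules ℤ) (hK : DCoh.IsKFlat K) : IsIso ((cnt E).app K) := by
  let W := HomologicalComplex.quasiIso X.Modules (ComplexShape.up ℤ)
  have hR : W.IsInvertedBy (resP X ⋙ DCoh.tensorCxQ E) := fun K L f (hf : QuasiIso f) => by
    refine isIso_tensorCxQ_map E _ (good_resP K).1 (good_resP L).1 ?_
    have := quasiIso_resψ K
    have := quasiIso_resψ L
    have : QuasiIso ((resP X).map f ≫ (resψ X).app L) := by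
      rw [(resψ X).naturality f]
      change QuasiIso ((resψ X).app K ≫ f)
      exact quasiIso_comp _ _
    exact quasiIso_of_comp_right ((resP X).map f) ((resψ X).app L)
  have h := isRightKanExtension_derivedOfRes DerivedCategory.Q W (DCoh.tensorCxQ E) (resP X)
    (resψ X) (fun K => quasiIso_resψ K)
    (fun K => isIso_tensorCxQ_map E _ (good_resP _).1 (good_resP _).1 (quasiIso_resψ _)) hR
  have h' : (DCoh.LTensorCx E).IsRightKanExtension
      ((DCoh.tensorCxQ E).totalLeftDerivedCounit DerivedCategory.Q W) :=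
    Functor.IsLeftDerivedFunctor.isRightKanExtension _ _ W
  have : IsIso ((derivedOfResα DerivedCategory.Q W (DCoh.tensorCxQ E) (resP X) (resψ X) hR).app K) := by
    rw [derivedOfResα_app]
    exact @IsIso.comp_isIso _ _ _ _ _ _ _
      (inferInstanceAs (IsIso ((Localization.fac _ hR DerivedCategory.Q).app K).hom))
      (isIso_tensorCxQ_map E _ (good_resP K).1 hK (quasiIso_resψ K))
  exact isIso_app_of_isRightKanExtension _ _
    ((DCoh.tensorCxQ E).totalLeftDerivedCounit DerivedCategory.Q W)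
    (derivedOfResα DerivedCategory.Q W (DCoh.tensorCxQ E) (resP X) (resψ X) hR) K

theorem isIso_cnt (E : CochainComplex X.Modules ℤ) [DCoh.HasLTensorCx E] (hE : DCoh.IsKFlat E)
    (K : CochainComplex X.Modules ℤ) : IsIso ((cnt E).app K) := by
  let q : (resP X).obj K ⟶ K := (resψ X).app K
  haveI : QuasiIso q := quasiIso_resψ K
  haveI := isIso_cnt_of_kFlat E _ (good_resP K).1
  haveI : QuasiIso ((tR E).map q) := quasiIso_bimap₁ (DCoh.tensorBi (X := X)) E hE q
  haveI : IsIso ((DerivedCategory.Q ⋙ DCoh.LTensorCx E).map q) :=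
    Functor.map_isIso (DCoh.LTensorCx E) (DerivedCategory.Q.map q)
  haveI : IsIso ((tR E ⋙ DerivedCategory.Q).map q) := inferInstanceAs (IsIso (DerivedCategory.Q.map ((tR E).map q)))
  haveI : IsIso ((DerivedCategory.Q ⋙ DCoh.LTensorCx E).map q ≫ (cnt E).app K) := by
    rw [(cnt E).naturality q]
    infer_instance
  exact IsIso.of_isIso_comp_left ((DerivedCategory.Q ⋙ DCoh.LTensorCx E).map q) _

section Abstract

variable {C : Type*} [Category* C] [Preadditive C] (T : C ⥤ C ⥤ C) [T.Additive]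
  [∀ a, (T.obj a).Additive] (α : bifunctorComp₁₂ T T ≅ bifunctorComp₂₃ T T)
  [∀ K L : CochainComplex C ℤ, HasMapBifunctor K L T (ComplexShape.up ℤ)]
  [∀ a, PreservesColimitsOfSize.{0, 0} (T.obj a)]
  [∀ a, PreservesColimitsOfSize.{0, 0} (T.flip.obj a)]

/-- The associator of total complexes, natural in the first variable. -/
noncomputable def assocFun (K L : CochainComplex C ℤ) :
    T.map₂CochainComplex.flip.obj K ⋙ T.map₂CochainComplex.flip.obj L ≅
      T.map₂CochainComplex.flip.obj ((T.map₂CochainComplex.obj K).obj L) :=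
  let u := ComplexShape.up ℤ
  haveI h₁₂ : ∀ P : CochainComplex C ℤ, HasGoodTrifunctor₁₂Obj T T P K L u u :=
    fun _ _ j =>
      (inferInstance : PreservesColimitsOfShape _ ((Functor.flip T).obj (L.X j))).preservesColimit
  haveI h₂₃ : ∀ P : CochainComplex C ℤ, HasGoodTrifunctor₂₃Obj T T P K L u u u :=
    fun P i _ => (inferInstance : PreservesColimitsOfShape _ (T.obj (P.X i))).preservesColimit
  NatIso.ofComponents
    (fun P => mapBifunctorAssociator α P K L u u u)
    (fun g => mapBifunctorAssociator_natural T α g K L)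

end Abstract

/-- The associator of the tensor product of modules. -/
noncomputable def assocBiX :
    bifunctorComp₁₂ (DCoh.tensorBi (X := X)) (DCoh.tensorBi (X := X)) ≅
      bifunctorComp₂₃ (DCoh.tensorBi (X := X)) (DCoh.tensorBi (X := X)) :=
  ModSiteLib.assocBi X.sheaf

instance preservesColimits_tensorBiX (M : X.Modules) :
    PreservesColimitsOfSize.{0, 0} ((DCoh.tensorBi (X := X)).obj M) :=
  ModSiteLib.preservesColimitsOfSize_zero_tensor (O := X.sheaf) M

instance preservesColimits_tensorBiX_flip (M : X.Modules) :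
    PreservesColimitsOfSize.{0, 0} ((DCoh.tensorBi (X := X)).flip.obj M) :=
  (inferInstance : PreservesColimitsOfSize.{0, 0} ((ModSite.tensorBi X.sheaf).flip.obj M))

/-- The associator. -/
noncomputable def tRAssoc (K L : CochainComplex X.Modules ℤ) :
    tR K ⋙ tR L ≅ tR (((DCoh.tensorCx (X := X)).obj K).obj L) :=
  assocFun DCoh.tensorBi assocBiX K L

/-- Replacing a complex by its resolution. -/
noncomputable def resIso {D : Type*} [Category* D] (G : DCoh.D X ⥤ D) :
    DerivedCategory.Q ⋙ G ≅ resP X ⋙ DerivedCategory.Q ⋙ G :=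
  (NatIso.ofComponents (fun K =>
    haveI := quasiIso_resψ (X := X) K
    G.mapIso (asIso (DerivedCategory.Q.map ((resψ X).app K))))
    fun {K L} g => by
      have h := (resψ X).naturality g
      simp only [Functor.id_map] at h
      simp only [Functor.comp_map, Functor.mapIso_hom, asIso_hom, ← Functor.map_comp, h]).symm

variable (K L : CochainComplex X.Modules ℤ) [DCoh.HasLTensorCx K] [DCoh.HasLTensorCx L]

/-- The derived tensor product of resolutions. -/
noncomputable def resCnt (E : CochainComplex X.Modules ℤ) [DCoh.HasLTensorCx E] :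
    resP X ⋙ DerivedCategory.Q ⋙ DCoh.LTensorCx E ≅ resP X ⋙ tR E ⋙ DerivedCategory.Q :=
  NatIso.ofComponents (fun M => @asIso _ _ _ _ _ (isIso_cnt_of_kFlat E _ (good_resP M).1))
    fun g => (cnt E).naturality ((resP X).map g)

/-- The derived tensor product by a K-flat complex. -/
noncomputable def flatCnt (hL : DCoh.IsKFlat L) :
    DerivedCategory.Q ⋙ DCoh.LTensorCx L ≅ tR L ⋙ DerivedCategory.Q :=
  NatIso.ofComponents (fun M => @asIso _ _ _ _ _ (isIso_cnt L hL M)) fun g => (cnt L).naturality g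

/-- Composing two derived functors computed on resolutions. -/
noncomputable def compIso {A D : Type*} [Category* A] [Category* D] {Q : A ⥤ D} {R t₁ t₂ t₃ : A ⥤ A}
    {G₁ G₂ G₃ : D ⥤ D} (r : Q ⋙ G₁ ⋙ G₂ ≅ R ⋙ Q ⋙ G₁ ⋙ G₂) (r' : Q ⋙ G₃ ≅ R ⋙ Q ⋙ G₃)
    (c₁ : R ⋙ Q ⋙ G₁ ≅ R ⋙ t₁ ⋙ Q) (c₂ : Q ⋙ G₂ ≅ t₂ ⋙ Q) (c₃ : R ⋙ Q ⋙ G₃ ≅ R ⋙ t₃ ⋙ Q)
    (a : t₁ ⋙ t₂ ≅ t₃) : Q ⋙ G₁ ⋙ G₂ ≅ Q ⋙ G₃ :=
  r ≪≫ Functor.isoWhiskerRight c₁ G₂ ≪≫ Functor.isoWhiskerLeft (R ⋙ t₁) c₂ ≪≫
    Functor.isoWhiskerLeft R (Functor.isoWhiskerRight a Q) ≪≫ c₃.symm ≪≫ r'.symm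

/-- `(- ⊗^L K) ⊗^L L ≅ - ⊗^L (K ⊗ L)`. -/
theorem nonempty_lTensor_comp (hL : DCoh.IsKFlat L)
    [DCoh.HasLTensorCx (((DCoh.tensorCx (X := X)).obj K).obj L)] :
    Nonempty (DCoh.LTensorCx K ⋙ DCoh.LTensorCx L ≅
      DCoh.LTensorCx (((DCoh.tensorCx (X := X)).obj K).obj L)) :=
  ⟨Localization.liftNatIso DerivedCategory.Q
    (HomologicalComplex.quasiIso X.Modules (ComplexShape.up ℤ))
    (DerivedCategory.Q ⋙ DCoh.LTensorCx K ⋙ DCoh.LTensorCx L)
    (DerivedCategory.Q ⋙ DCoh.LTensorCx (((DCoh.tensorCx (X := X)).obj K).obj L)) _ _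
    (compIso (resIso (DCoh.LTensorCx K ⋙ DCoh.LTensorCx L)) (resIso _) (resCnt K) (flatCnt L hL)
      (resCnt _) (tRAssoc K L))⟩

theorem nonempty_rSheafHom_comp (hL : DCoh.IsKFlat L) [DCoh.HasRSheafHom K] [DCoh.HasRSheafHom L]
    [DCoh.HasLTensorCx (((DCoh.tensorCx (X := X)).obj K).obj L)]
    [DCoh.HasRSheafHom (((DCoh.tensorCx (X := X)).obj K).obj L)] (M : DCoh.D X) :
    Nonempty ((DCoh.RSheafHom K).obj ((DCoh.RSheafHom L).obj M) ≅
      (DCoh.RSheafHom (((DCoh.tensorCx (X := X)).obj K).obj L)).obj M) := by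
  obtain ⟨e⟩ := nonempty_lTensor_comp K L hL
  exact ⟨((((DCoh.RSheafHomAdj K).comp (DCoh.RSheafHomAdj L)).ofNatIsoLeft e).rightAdjointUniq
    (DCoh.RSheafHomAdj (((DCoh.tensorCx (X := X)).obj K).obj L))).app M⟩

end TensorAssocLib
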