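import Mathlib.Algebra.Homology.BifunctorAssociator
import Mathlib.Algebra.Homology.ComplexShapeSigns

/-!
# Naturality of the associator of total complexes in the first variable
-/

set_option autoImplicit false

universe v u

open CategoryTheory CategoryTheory.Limits HomologicalComplex

namespace TensorAssocLib

variable {C : Type u} [Category.{v} C] [Preadditive C] (T : C ⥤ C ⥤ C) [T.Additive]
  [∀ a, (T.obj a).Additive] (α : bifunctorComp₁₂ T T ≅ bifunctorComp₂₃ T T)

set_option backward.isDefEq.respectTransparency false in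
theorem mapBifunctorAssociator_natural {K K' : CochainComplex C ℤ} (g : K ⟶ K') (L M : CochainComplex C ℤ)
    [HasMapBifunctor K L T (ComplexShape.up ℤ)] [HasMapBifunctor K' L T (ComplexShape.up ℤ)]
    [HasMapBifunctor L M T (ComplexShape.up ℤ)]
    [HasMapBifunctor (mapBifunctor K L T (ComplexShape.up ℤ)) M T (ComplexShape.up ℤ)]
    [HasMapBifunctor (mapBifunctor K' L T (ComplexShape.up ℤ)) M T (ComplexShape.up ℤ)]
    [HasMapBifunctor K (mapBifunctor L M T (ComplexShape.up ℤ)) T (ComplexShape.up ℤ)]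
    [HasMapBifunctor K' (mapBifunctor L M T (ComplexShape.up ℤ)) T (ComplexShape.up ℤ)]
    [HasGoodTrifunctor₁₂Obj T T K L M (ComplexShape.up ℤ) (ComplexShape.up ℤ)]
    [HasGoodTrifunctor₁₂Obj T T K' L M (ComplexShape.up ℤ) (ComplexShape.up ℤ)]
    [HasGoodTrifunctor₂₃Obj T T K L M (ComplexShape.up ℤ) (ComplexShape.up ℤ) (ComplexShape.up ℤ)]
    [HasGoodTrifunctor₂₃Obj T T K' L M (ComplexShape.up ℤ) (ComplexShape.up ℤ) (ComplexShape.up ℤ)] :
    mapBifunctorMap (mapBifunctorMap g (𝟙 L) T (ComplexShape.up ℤ)) (𝟙 M) T (ComplexShape.up ℤ) ≫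
        (mapBifunctorAssociator α K' L M (ComplexShape.up ℤ) (ComplexShape.up ℤ) (ComplexShape.up ℤ)).hom =
      (mapBifunctorAssociator α K L M (ComplexShape.up ℤ) (ComplexShape.up ℤ) (ComplexShape.up ℤ)).hom ≫
        mapBifunctorMap g (𝟙 (mapBifunctor L M T (ComplexShape.up ℤ))) T (ComplexShape.up ℤ) := by
  refine HomologicalComplex.hom_ext _ _ fun j => mapBifunctor₁₂.hom_ext fun i₁ i₂ i₃ h => ?_
  have h' : (i₁ + i₂) + i₃ = j := h
  have hα := NatTrans.naturality_app_app α.hom (g.f i₁) (L.X i₂) (M.X i₃)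
  simp only [HomologicalComplex.comp_f, mapBifunctorAssociator, Hom.isoOfComponents_hom_f]
  rw [ι_mapBifunctorAssociatorX_hom_assoc,
    mapBifunctor₁₂.ι_eq T T K L M (ComplexShape.up ℤ) (ComplexShape.up ℤ) i₁ i₂ i₃ (i₁ + i₂) j rfl h',
    mapBifunctor₂₃.ι_eq T T K L M (ComplexShape.up ℤ) (ComplexShape.up ℤ) (ComplexShape.up ℤ) i₁ i₂ i₃
      (i₂ + i₃) j rfl ((add_assoc i₁ i₂ i₃).symm.trans h')]
  simp only [Category.assoc, ι_mapBifunctorMap, ι_mapBifunctorMap_assoc, HomologicalComplex.id_f,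
    CategoryTheory.Functor.map_id, Category.id_comp]
  rw [← NatTrans.comp_app_assoc, ← Functor.map_comp, ι_mapBifunctorMap]
  simp only [HomologicalComplex.id_f, CategoryTheory.Functor.map_id, Category.id_comp]
  rw [Functor.map_comp, NatTrans.comp_app, Category.assoc]
  rw [← Category.assoc ((T.map (ιMapBifunctor K' L T (ComplexShape.up ℤ) i₁ i₂ (i₁ + i₂) rfl)).app (M.X i₃)),
    ← mapBifunctor₁₂.ι_eq T T K' L M (ComplexShape.up ℤ) (ComplexShape.up ℤ) i₁ i₂ i₃ (i₁ + i₂) j rfl h',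
    ι_mapBifunctorAssociatorX_hom,
    mapBifunctor₂₃.ι_eq T T K' L M (ComplexShape.up ℤ) (ComplexShape.up ℤ) (ComplexShape.up ℤ) i₁ i₂ i₃
      (i₂ + i₃) j rfl ((add_assoc i₁ i₂ i₃).symm.trans h'),
    NatTrans.naturality_assoc]
  exact ((Category.assoc _ _ _).symm.trans (congrArg (· ≫ _) hα)).trans (Category.assoc _ _ _)

end TensorAssocLib
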